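import Cfsg.Agent.Goldschmidt.Class.Image

/-!
The big branch: the terminal `Z_L` meet pairwise and are big.
-/

set_option autoImplicit false
set_option linter.unusedSectionVars false
set_option linter.style.haveILetI false

namespace Cfsg.Lib.Goldschmidt

open Subgroup Cfsg.Lib.Components
open Cfsg.Lib.Walter (IsComp Triv Oc)

universe u

variable {G : Type u} [Group G] [Finite G] {S : Sylow 2 G} {A : Subgroup G} {a : G} {L : Subgroup G}

/-- The `Z_L` of the terminal components. -/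
def TZ (A Z : Subgroup G) : Prop := ∃ a L, Terminal A a L ∧ ZA A a L = Z

namespace TZ

variable {Z : Subgroup G}

theorem le (hZ : TZ A Z) : Z ≤ A := by obtain ⟨a, L, -, rfl⟩ := hZ; exact inf_le_left

theorem conj (hZ : TZ A Z) {g : G} (hg : g ∈ normalizer (A : Set G)) : TZ A (Z.map (MulAut.conj g).toMonoidHom) := by
  obtain ⟨a, L, ht, rfl⟩ := hZ
  exact ⟨_, _, ht.conj hg, ht.1.ZA_conj_eq hg⟩

end TZ

theorem map_conj_inj {g : G} {H K : Subgroup G}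
    (e : H.map (MulAut.conj g).toMonoidHom = K.map (MulAut.conj g).toMonoidHom) : H = K :=
  Subgroup.map_injective (MulAut.conj g).injective e

theorem card_mul_relIndex_le {H : Subgroup G} (hH : H ≤ A) : Nat.card H * H.relIndex A = Nat.card A := by
  simpa only [relIndex_bot_left] using Subgroup.relIndex_mul_relIndex ⊥ H A bot_le hH

namespace Min

variable (h : Min S A)
include h

theorem tz_ne_bot {Z : Subgroup G} (hZ : TZ A Z) : Z ≠ ⊥ := by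
  obtain ⟨a, L, ht, rfl⟩ := hZ
  intro e
  have := h.self_mem ht.1
  rw [e, mem_bot] at this
  exact ht.1.2.1 this

theorem tz_ne_top {Z : Subgroup G} (hZ : TZ A Z) : Z ≠ A := by
  obtain ⟨a, L, ht, rfl⟩ := hZ
  exact fun e => ht.1.2.2.2 e.ge

theorem card_sup_inf {X Y : Subgroup G} (hX : X ≤ A) (hY : Y ≤ A) :
    Nat.card ↥(X ⊔ Y) * Nat.card ↥(X ⊓ Y) = Nat.card X * Nat.card Y :=
  Cfsg.Lib.Coprime.card_sup_mul_card_inf fun y hy =>
    centralizer_le_normalizer _ (mem_centralizer_iff.2 fun x hx => h.comm x (hX hx) y (hY hy))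

/-- Outside `Z_L` there are points in two cosets differing by any given element. -/
theorem exists_third (hA : Local A) (hm : Moved A a L) {w : G} (hw : w ∈ A) :
    ∃ x ∈ A, x ∉ ZA A a L ∧ w * x ∉ ZA A a L := by
  set Z := ZA A a L
  by_contra hc
  push Not at hc
  classical
  haveI : (Z.subgroupOf A).Normal := ⟨fun n hn g => by
    rwa [show g * n = n * g from Subtype.ext (h.comm g g.2 n n.2), mul_inv_cancel_right]⟩
  haveI := Fintype.ofFinite (↥A ⧸ Z.subgroupOf A)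
  have hsub : (Finset.univ : Finset (↥A ⧸ Z.subgroupOf A)) ⊆ {1, ((⟨w, hw⟩⁻¹ : A) : ↥A ⧸ Z.subgroupOf A)} := by
    intro q _
    obtain ⟨x, rfl⟩ := QuotientGroup.mk_surjective q
    rw [Finset.mem_insert, Finset.mem_singleton]
    by_cases hx : (x : G) ∈ Z
    · exact .inl ((QuotientGroup.eq_one_iff _).2 hx)
    · refine .inr (QuotientGroup.eq.2 ?_)
      show (x : G)⁻¹ * w⁻¹ ∈ Z
      rw [← mul_inv_rev]
      exact inv_mem (hc x x.2 hx)
  have hcard := (Finset.card_le_card hsub).trans (Finset.card_le_two)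
  rw [Finset.card_univ, ← Nat.card_eq_fintype_card, ← index_eq_card] at hcard
  have h4 := hA.index hm
  change Z.relIndex A ≤ 2 at hcard
  change 4 ≤ Z.relIndex A at h4
  omega

/-- Every class modulo `Z_L` contains a commutator with `N_L(A)`. -/
theorem rot_cover (hA : Local A) (hm : Moved A a L) {w : G} (hw : w ∈ A) :
    ∃ g ∈ L, g ∈ normalizer (A : Set G) ∧ ∃ x ∈ A, (g * x * g⁻¹ * x⁻¹)⁻¹ * w ∈ ZA A a L := by
  obtain ⟨r, hr, hrN, -, htrans, -, -⟩ := hA.rot hm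
  obtain ⟨x, hx, hxZ, hwx⟩ := h.exists_third hA hm hw
  obtain ⟨k, hk⟩ := htrans x hx (w * x) (mul_mem hw hx) hxZ hwx
  refine ⟨r ^ k, pow_mem hr k, pow_mem hrN k, x, hx, ?_⟩
  have hy : r ^ k * x * (r ^ k)⁻¹ ∈ A := (mem_normalizer_iff.1 (pow_mem hrN k) x).1 hx
  rw [show (r ^ k * x * (r ^ k)⁻¹ * x⁻¹)⁻¹ * w = x * ((r ^ k * x * (r ^ k)⁻¹)⁻¹ * w) by group,
    h.comm x hx _ (mul_mem (inv_mem hy) hw), mul_assoc]
  exact hk

/-- Two distinct terminal `Z_L` that meet span `A`, and the commutators with the first `N_L(A)` lie in the second. -/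
theorem meet_aux (hA : Local A) {a' : G} {L' : Subgroup G} (ht : Terminal A a L) (ht' : Terminal A a' L')
    (hne : ZA A a L ≠ ZA A a' L') (hmeet : ZA A a L ⊓ ZA A a' L' ≠ ⊥) :
    ZA A a L ⊔ ZA A a' L' = A ∧
      ∀ g ∈ L, g ∈ normalizer (A : Set G) → ∀ x ∈ A, g * x * g⁻¹ * x⁻¹ ∈ ZA A a' L' := by
  obtain ⟨b, hb, hb1⟩ := (bot_or_exists_ne_one _).resolve_left hmeet
  obtain ⟨K, hK, heK, -⟩ := h.exists_lift hA ht hb.1 hb1
  obtain ⟨K', hK', heK', -⟩ := h.exists_lift hA ht' hb.2 hb1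
  have hKK : K ≠ K' := fun e => hne (by rw [← heK, ← heK', e])
  refine ⟨le_antisymm (sup_le inf_le_left inf_le_left) ?_, fun g hg hgN x hx => ?_⟩
  · conv_lhs => rw [← hA.sup hK']
    exact sup_le (heK'.le.trans le_sup_right) (((hA.other hK hK' hKK).trans heK.le).trans le_sup_left)
  · obtain ⟨k, hk, hkN, hkx⟩ := h.same_image hA ht hK heK hg hgN
    rw [← hkx x hx]
    have hmemA : k * x * k⁻¹ * x⁻¹ ∈ A := mul_mem ((mem_normalizer_iff.1 hkN x).1 hx) (inv_mem hx)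
    refine heK'.le (hA.other hK' hK hKK.symm (mem_inf.2 ⟨hmemA, ?_⟩))
    show k * x * k⁻¹ * x⁻¹ ∈ K
    rw [show k * x * k⁻¹ * x⁻¹ = k * (x * k⁻¹ * x⁻¹) by group]
    exact mul_mem hk ((mem_normalizer_iff.1 (hA.le_norm hK.1 hK.2.1 hK.2.2.1 hx) k⁻¹).1 (inv_mem hk))

variable {Z Z' Z'' : Subgroup G}

theorem tz_sup (hA : Local A) (hZ : TZ A Z) (hZ' : TZ A Z') (hne : Z ≠ Z') (hmeet : Z ⊓ Z' ≠ ⊥) : Z ⊔ Z' = A := by
  obtain ⟨a, L, ht, rfl⟩ := hZ
  obtain ⟨a', L', ht', rfl⟩ := hZ'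
  exact (h.meet_aux hA ht ht' hne hmeet).1

/-- A class modulo `Z` meets all the other `Z'` that meet `Z`. -/
theorem tz_cover (hA : Local A) (hZ : TZ A Z) {w : G} (hw : w ∈ A) :
    ∃ d ∈ A, d⁻¹ * w ∈ Z ∧ ∀ Z', TZ A Z' → Z ≠ Z' → Z ⊓ Z' ≠ ⊥ → d ∈ Z' := by
  obtain ⟨a, L, ht, rfl⟩ := hZ
  obtain ⟨g, hg, hgN, x, hx, hd⟩ := h.rot_cover hA ht.1 hw
  refine ⟨_, mul_mem ((mem_normalizer_iff.1 hgN x).1 hx) (inv_mem hx), hd, fun Z' hZ' hne hmeet => ?_⟩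
  obtain ⟨a', L', ht', rfl⟩ := hZ'
  exact (h.meet_aux hA ht ht' hne hmeet).2 g hg hgN x hx

theorem tz_trans (hA : Local A) (hZ : TZ A Z) (hZ' : TZ A Z') (hZ'' : TZ A Z'') (h1 : Z ⊓ Z' ≠ ⊥)
    (h2 : Z' ⊓ Z'' ≠ ⊥) : Z ⊓ Z'' ≠ ⊥ := by
  by_cases e1 : Z' = Z
  · rwa [e1] at h2
  by_cases e2 : Z' = Z''
  · rwa [e2] at h1
  obtain ⟨w, hw, hwZ⟩ := SetLike.not_le_iff_exists.1 (fun hle : A ≤ Z' => h.tz_ne_top hZ' (le_antisymm hZ'.le hle))
  obtain ⟨d, hd, hdw, hall⟩ := h.tz_cover hA hZ' hw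
  intro e
  have hd1 : d = 1 := mem_bot.1 (e ▸ mem_inf.2 ⟨hall Z hZ e1 (by rwa [inf_comm]), hall Z'' hZ'' e2 h2⟩)
  rw [hd1, inv_one, one_mul] at hdw
  exact hwZ hdw

/-- Three members of one class. -/
theorem tz_three (hA : Local A) (hZ : TZ A Z) (hZ' : TZ A Z') (hZ'' : TZ A Z'') (h1 : Z ≠ Z') (h2 : Z'' ≠ Z)
    (h3 : Z'' ≠ Z') (m1 : Z ⊓ Z' ≠ ⊥) (m2 : Z'' ⊓ Z ≠ ⊥) (m3 : Z'' ⊓ Z' ≠ ⊥) :
    Z.relIndex A * Z'.relIndex A ≤ Nat.card Z'' ∧
      Z.relIndex A * Z'.relIndex A * Z''.relIndex A ≤ Nat.card A := by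
  have hsup : Z'' ⊔ Z ⊓ Z' = A := by
    refine le_antisymm (sup_le hZ''.le (inf_le_left.trans hZ.le)) fun w hw => ?_
    obtain ⟨d, hd, hdw, hall⟩ := h.tz_cover hA hZ'' hw
    have := mul_mem (mem_sup_right (S := Z'') (mem_inf.2 ⟨hall Z hZ h2 m2, hall Z' hZ' h3 m3⟩ : d ∈ Z ⊓ Z'))
      (mem_sup_left hdw)
    rwa [mul_inv_cancel_left] at this
  have e1 := h.card_sup_inf hZ''.le ((inf_le_left : Z ⊓ Z' ≤ Z).trans hZ.le)
  rw [hsup] at e1
  have e2 := h.card_sup_inf hZ.le hZ'.le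
  rw [h.tz_sup hA hZ hZ' h1 m1] at e2
  have f1 : Nat.card Z * Z.relIndex A = Nat.card A := card_mul_relIndex_le hZ.le
  have f2 : Nat.card Z' * Z'.relIndex A = Nat.card A := card_mul_relIndex_le hZ'.le
  have f3 : Nat.card Z'' * Z''.relIndex A = Nat.card A := card_mul_relIndex_le hZ''.le
  have hI : Nat.card ↥(Z ⊓ Z') * (Z.relIndex A * Z'.relIndex A) = Nat.card A := by
    refine Nat.eq_of_mul_eq_mul_left (Nat.card_pos (α := A)) ?_
    calc _ = (Nat.card A * Nat.card ↥(Z ⊓ Z')) * (Z.relIndex A * Z'.relIndex A) := by ring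
      _ = (Nat.card Z * Z.relIndex A) * (Nat.card Z' * Z'.relIndex A) := by rw [e2]; ring
      _ = _ := by rw [f1, f2]
  have hle : Nat.card A ≤ Nat.card Z'' * Nat.card ↥(Z ⊓ Z') := by
    rw [← e1]; exact Nat.le_mul_of_pos_right _ Nat.card_pos
  have hmain : Z.relIndex A * Z'.relIndex A ≤ Nat.card Z'' := by
    refine Nat.le_of_mul_le_mul_left ?_ (Nat.card_pos (α := ↥(Z ⊓ Z')))
    rw [hI, mul_comm (Nat.card ↥(Z ⊓ Z'))]
    exact hle
  exact ⟨hmain, f3 ▸ Nat.mul_le_mul_right _ hmain⟩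

/-- A `Z_L` with a disjoint conjugate is alone in its class. -/
theorem tz_only (hA : Local A) (hZ : TZ A Z) {g : G} (hg : g ∈ normalizer (A : Set G))
    (e : Z ⊓ Z.map (MulAut.conj g).toMonoidHom = ⊥) (hZ' : TZ A Z') (hm : Z ⊓ Z' ≠ ⊥) : Z' = Z := by
  by_contra hne
  set W := Z.map (MulAut.conj g).toMonoidHom with hW
  have hWT : TZ A W := hZ.conj hg
  set W' := Z'.map (MulAut.conj g).toMonoidHom with hW'
  have hWT' : TZ A W' := hZ'.conj hg
  have hmW : W ⊓ W' ≠ ⊥ := by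
    rw [hW, hW', ← Subgroup.map_inf _ _ _ (MulAut.conj g).injective]
    exact fun e' => hm ((map_eq_bot_iff_of_injective _ (MulAut.conj g).injective).1 e')
  have hd1 : Z ⊓ W' = ⊥ := by
    by_contra hc
    exact h.tz_trans hA hZ hWT' hWT hc (by rwa [inf_comm]) e
  have hd2 : Z' ⊓ W' = ⊥ := by
    by_contra hc
    exact h.tz_trans hA hZ hZ' hWT' hm hc hd1
  have c1 := h.card_sup_inf hZ.le hWT.le
  have c2 := h.card_sup_inf hZ'.le hWT'.le
  have c3 := h.card_sup_inf hZ.le hZ'.le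
  rw [e, card_bot, mul_one, hW, card_map_of_injective (MulAut.conj g).injective, ← hW] at c1
  rw [hd2, card_bot, mul_one, hW', card_map_of_injective (MulAut.conj g).injective, ← hW'] at c2
  rw [h.tz_sup hA hZ hZ' (Ne.symm hne) hm] at c3
  have l1 := card_le_of_le (sup_le hZ.le hWT.le)
  have l2 := card_le_of_le (sup_le hZ'.le hWT'.le)
  have l3 : 2 ≤ Nat.card ↥(Z ⊓ Z') := (one_lt_card_iff_ne_bot _).2 hm
  have := Nat.mul_le_mul (c1 ▸ l1) (c2 ▸ l2)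
  have := Nat.mul_le_mul_left (Nat.card A) l3
  have : 0 < Nat.card A := Nat.card_pos
  nlinarith

/-- Every terminal `Z_L` meets all of its conjugates. -/
theorem tz_fixed (hR : RLINSpec.{u}) (hT : TwoBlockSpec G) (hA : Local A) (h16 : 16 ≤ Nat.card A) (hZ : TZ A Z)
    {g : G} (hg : g ∈ normalizer (A : Set G)) : Z ⊓ Z.map (MulAut.conj g).toMonoidHom ≠ ⊥ := by
  intro e
  have honly := fun {Z' : Subgroup G} => h.tz_only hA hZ hg e (Z' := Z')
  obtain ⟨a, L, ht, rfl⟩ := hZ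
  have hti : ∀ n ∈ normalizer (A : Set G), (ZA A a L).map (MulAut.conj n).toMonoidHom = ZA A a L ∨
      ZA A a L ⊓ (ZA A a L).map (MulAut.conj n).toMonoidHom = ⊥ := fun n hn =>
    (em (ZA A a L ⊓ (ZA A a L).map (MulAut.conj n).toMonoidHom = ⊥)).symm.imp_left
      fun hne => honly (TZ.conj ⟨a, L, ht, rfl⟩ hn) hne
  rcases h.terminal_rlin hR hA ht hti with ⟨h8, -⟩ | ⟨H, hH, h1, h2, h3, h4⟩
  · omega
  · exact hT S A h hA a L ht H hH h1 h2 h3 h4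

/-- Two further members in the class of each terminal `Z_L`. -/
theorem tz_two_others (hA : Local A) (hZ : TZ A Z)
    (hfix : ∀ g ∈ normalizer (A : Set G), Z ⊓ Z.map (MulAut.conj g).toMonoidHom ≠ ⊥) : ∃ Z₁ Z₂, TZ A Z₁ ∧ TZ A Z₂ ∧ Z₁ ≠ Z ∧ Z₂ ≠ Z ∧ Z₁ ≠ Z₂ ∧ Z ⊓ Z₁ ≠ ⊥ ∧ Z ⊓ Z₂ ≠ ⊥ := by
  by_contra hc
  push Not at hc
  by_cases hex : ∃ Z', TZ A Z' ∧ Z' ≠ Z ∧ Z ⊓ Z' ≠ ⊥
  · obtain ⟨Z', hZ', hne, hm⟩ := hex
    have hcls : ∀ X, TZ A X → Z ⊓ X ≠ ⊥ → X = Z ∨ X = Z' := fun X hX hmX => by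
      by_contra hc'
      push Not at hc'
      exact hmX (hc Z' X hZ' hX hne hc'.1 hc'.2.symm hm)
    have hinv : normalizer (A : Set G) ≤ normalizer ((Z ⊓ Z' : Subgroup G) : Set G) := fun g hg => by
      refine mem_normalizer_iff_map_conj_eq.2 ?_
      change (Z ⊓ Z').map (MulAut.conj g).toMonoidHom = Z ⊓ Z'
      rw [Subgroup.map_inf _ _ _ (MulAut.conj g).injective]
      have hW := hZ.conj hg
      have hW' := hZ'.conj hg
      have hmW : Z ⊓ Z'.map (MulAut.conj g).toMonoidHom ≠ ⊥ := by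
        refine h.tz_trans hA hZ hW hW' (hfix _ hg) ?_
        rw [← Subgroup.map_inf _ _ _ (MulAut.conj g).injective]
        exact fun e' => hm ((map_eq_bot_iff_of_injective _ (MulAut.conj g).injective).1 e')
      rcases hcls _ hW (hfix _ hg) with e1 | e1 <;> rcases hcls _ hW' hmW with e2 | e2
      · exact absurd (map_conj_inj (e2.trans e1.symm)) hne
      · rw [e1, e2]
      · rw [e1, e2, inf_comm]
      · exact absurd (map_conj_inj (e2.trans e1.symm)) hne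
    rcases h.invariant_eq (inf_le_left.trans hZ.le) hinv with e | e
    · exact hm e
    · exact h.tz_ne_top hZ (le_antisymm hZ.le (e.symm.le.trans inf_le_left))
  · push Not at hex
    have hinv : normalizer (A : Set G) ≤ normalizer (Z : Set G) := fun g hg => by
      refine mem_normalizer_iff_map_conj_eq.2 ?_
      by_contra hne
      exact hfix _ hg (hex _ (hZ.conj hg) hne)
    rcases h.invariant_eq hZ.le hinv with e | e
    · exact h.tz_ne_bot hZ e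
    · exact h.tz_ne_top hZ e

theorem tz_meet (hR : RLINSpec.{u}) (hT : TwoBlockSpec G) (hA : Local A) (h16 : 16 ≤ Nat.card A) (hZ : TZ A Z)
    (hZ' : TZ A Z') : Z ⊓ Z' ≠ ⊥ := by
  intro e
  classical
  -- the least index in a class
  have hcube : ∀ {Z : Subgroup G}, TZ A Z →
      ∃ X, TZ A X ∧ Z ⊓ X ≠ ⊥ ∧ X.relIndex A ^ 3 ≤ Nat.card A := by
    intro Z hZ
    obtain ⟨X, ⟨hX, hmX⟩, hmin⟩ := Set.exists_min_image {X : Subgroup G | TZ A X ∧ Z ⊓ X ≠ ⊥}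
      (fun X => X.relIndex A) (Set.toFinite _) ⟨Z, hZ, by rw [inf_idem]; exact h.tz_ne_bot hZ⟩
    obtain ⟨Z₁, Z₂, hZ₁, hZ₂, n1, n2, n12, m1, m2⟩ := h.tz_two_others hA hX fun g hg => h.tz_fixed hR hT hA h16 hX hg
    have hb := (h.tz_three hA hZ₁ hZ₂ hX n12 n1.symm n2.symm
      (h.tz_trans hA hZ₁ hX hZ₂ (by rwa [inf_comm]) m2) m1 m2).2
    refine ⟨X, hX, hmX, le_trans ?_ hb⟩
    rw [pow_succ, pow_succ, pow_one]
    exact Nat.mul_le_mul_right _ (Nat.mul_le_mul (hmin Z₁ ⟨hZ₁, h.tz_trans hA hZ hX hZ₁ hmX m1⟩)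
      (hmin Z₂ ⟨hZ₂, h.tz_trans hA hZ hX hZ₂ hmX m2⟩))
  obtain ⟨X, hX, hmX, hX3⟩ := hcube hZ
  obtain ⟨Y, hY, hmY, hY3⟩ := hcube hZ'
  have hd : X ⊓ Y = ⊥ := by
    by_contra hc
    exact h.tz_trans hA hZ hY hZ' (h.tz_trans hA hZ hX hY hmX hc) (by rwa [inf_comm]) e
  have c1 := h.card_sup_inf hX.le hY.le
  rw [hd, card_bot, mul_one] at c1
  have l1 := c1 ▸ card_le_of_le (sup_le hX.le hY.le)
  have f1 : Nat.card X * X.relIndex A = Nat.card A := card_mul_relIndex_le hX.le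
  have f2 : Nat.card Y * Y.relIndex A = Nat.card A := card_mul_relIndex_le hY.le
  set n := Nat.card A
  set x := X.relIndex A
  set y := Y.relIndex A
  have hn : n ≤ x * y := by
    refine Nat.le_of_mul_le_mul_left ?_ (by omega : 0 < n)
    calc n * n = (Nat.card X * x) * (Nat.card Y * y) := by rw [f1, f2]
      _ = (Nat.card X * Nat.card Y) * (x * y) := by ring
      _ ≤ n * (x * y) := Nat.mul_le_mul_right _ l1
  have h3 : n ^ 3 ≤ n ^ 2 := by
    calc n ^ 3 ≤ (x * y) ^ 3 := Nat.pow_le_pow_left hn 3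
      _ = x ^ 3 * y ^ 3 := mul_pow x y 3
      _ ≤ n * n := Nat.mul_le_mul hX3 hY3
      _ = n ^ 2 := (pow_two n).symm
  exact absurd h3 (not_le.2 (Nat.pow_lt_pow_right (by omega) (by norm_num)))

end Min

/-- The big branch from RLIN and the two-block kill. -/
theorem classSpec (G : Type u) [Group G] [Finite G] : ClassSpec G := by
  intro hR hT S A h hA h16
  refine ⟨fun {a L} hm => ?_, fun {a L a' L'} ht ht' =>
    h.tz_meet hR hT hA h16 ⟨a, L, ht, rfl⟩ ⟨a', L', ht', rfl⟩⟩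
  obtain ⟨b, K, hK, hle⟩ := h.exists_terminal hA hm
  have hZ : TZ A (ZA A b K) := ⟨b, K, hK, rfl⟩
  obtain ⟨Z₁, Z₂, hZ₁, hZ₂, n1, n2, n12, m1, m2⟩ := h.tz_two_others hA hZ fun g hg => h.tz_fixed hR hT hA h16 hZ hg
  have hb := (h.tz_three hA hZ₁ hZ₂ hZ n12 n1.symm n2.symm
    (h.tz_trans hA hZ₁ hZ hZ₂ (by rwa [inf_comm]) m2) m1 m2).1
  obtain ⟨a₁, L₁, ht₁, rfl⟩ := hZ₁
  obtain ⟨a₂, L₂, ht₂, rfl⟩ := hZ₂
  exact le_trans (Nat.mul_le_mul (hA.index ht₁.1) (hA.index ht₂.1)) (hb.trans (card_le_of_le hle))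

end Cfsg.Lib.Goldschmidt
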