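import Cfsg.Agent.Goldschmidt.Class.Image
import Mathlib.GroupTheory.GroupAction.Quotient

/-!
The branch of rank three.
-/

set_option autoImplicit false
set_option linter.unusedSectionVars false
set_option linter.style.haveILetI false

namespace Cfsg.Lib.Goldschmidt

open Subgroup
open Cfsg.Lib.Walter (IsComp Triv Oc)

universe u

variable {G : Type u} [Group G] [Finite G] {S : Sylow 2 G} {A : Subgroup G} {a : G} {L : Subgroup G}

theorem relIndex_ZA (A : Subgroup G) (a : G) (L : Subgroup G) :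
    Nat.card ↥(ZA A a L) * (ZA A a L).relIndex A = Nat.card A := by
  have h := Subgroup.relIndex_mul_relIndex ⊥ (ZA A a L) A bot_le inf_le_left
  rwa [relIndex_bot_left, relIndex_bot_left] at h

theorem Min.ZA_eight (h : Min S A) (hA : Local A) (h8 : Nat.card A = 8) (hm : Moved A a L) :
    ZA A a L = zpowers a := by
  refine (Subgroup.eq_of_le_of_card_ge (zpowers_le.2 (h.self_mem hm)) ?_).symm
  rw [Nat.card_zpowers, h.ord_two hm.1 hm.2.1]
  have h1 := relIndex_ZA A a L
  rw [h8] at h1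
  have h4 := hA.index hm
  nlinarith

/-- S4 in rank three. -/
theorem threeClassSpec : ThreeClassSpec G := by
  intro hR S A h hA h8 ⟨a, L, hm⟩
  classical
  haveI : Fact (Nat.Prime 2) := ⟨Nat.prime_two⟩
  have ht : Terminal A a L := ⟨hm, fun {b K} hK hb hle => by
    rw [h.ZA_eight hA h8 hK] at hle ⊢
    rw [h.ZA_eight hA h8 hm] at hle hb ⊢
    refine Subgroup.eq_of_le_of_card_ge hle ?_
    rw [Nat.card_zpowers, Nat.card_zpowers, h.ord_two hK.1 hK.2.1, h.ord_two hm.1 hm.2.1]⟩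
  have hti : ∀ g ∈ normalizer (A : Set G), (ZA A a L).map (MulAut.conj g).toMonoidHom = ZA A a L ∨
      ZA A a L ⊓ (ZA A a L).map (MulAut.conj g).toMonoidHom = ⊥ := by
    intro g _
    refine or_iff_not_imp_right.2 fun hne => ?_
    obtain ⟨x, hx, hx1⟩ := (bot_or_exists_ne_one _).resolve_left hne
    have hcard : Nat.card ↥(ZA A a L) = 2 := by rw [h.ZA_eight hA h8 hm, Nat.card_zpowers, h.ord_two hm.1 hm.2.1]
    have hx2 : Nat.card (zpowers x) = 2 := by rw [Nat.card_zpowers, h.ord_two hx.1.1 hx1]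
    have e1 : zpowers x = ZA A a L := Subgroup.eq_of_le_of_card_ge (zpowers_le.2 hx.1) (by rw [hx2, hcard])
    have e2 : zpowers x = (ZA A a L).map (MulAut.conj g).toMonoidHom := Subgroup.eq_of_le_of_card_ge
      (zpowers_le.2 hx.2) (by rw [hx2, card_map_of_injective (MulAut.conj g).injective, hcard])
    exact e2.symm.trans e1
  obtain ⟨-, hodd⟩ : Nat.card A = 8 ∧ Odd (Nat.card ↥(Walter.conjHom (normalizer (A : Set G)) A le_rfl).range) := by
    refine (h.terminal_rlin hR hA ht hti).resolve_right ?_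
    rintro ⟨H, hHA, hinf, hsup, hcard, -⟩
    have h2 : Nat.card ↥(ZA A a L) = 2 := by rw [h.ZA_eight hA h8 hm, Nat.card_zpowers, h.ord_two hm.1 hm.2.1]
    have hle : Nat.card A ≤ Nat.card ↥(ZA A a L) * Nat.card H := by
      rw [← Nat.card_prod]
      refine Nat.card_le_card_of_surjective (fun p : ↥(ZA A a L) × H =>
        (⟨(p.1 : G) * p.2, mul_mem p.1.2.1 (hHA p.2.2)⟩ : A)) fun x => ?_
      have hn : ZA A a L ≤ normalizer (H : Set G) := fun v hv =>
        centralizer_le_normalizer _ (mem_centralizer_iff.2 fun y hy => h.comm y (hHA hy) v hv.1)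
      have hx : (x : G) ∈ H ⊔ ZA A a L := by rw [sup_comm, hsup]; exact x.2
      obtain ⟨k, hk, y, hy, e⟩ := (Cfsg.Lib.Coprime.mem_sup_of_le_normalizer' hn).1 hx
      exact ⟨(⟨k, hk⟩, ⟨y, hy⟩), Subtype.ext e⟩
    rw [hcard, h2, h8] at hle
    omega
  set Nm := normalizer (A : Set G) with hNm
  set σ := Walter.conjHom Nm A le_rfl with hσ
  have hcent : (S : Subgroup G) ≤ centralizer (A : Set G) := by
    intro s hs
    have hsN : s ∈ Nm := sylow_le_normalizer h.closed hs
    obtain ⟨k, hk⟩ := S.isPGroup' ⟨s, hs⟩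
    have hk' : s ^ 2 ^ k = 1 := congrArg Subtype.val hk
    have h1 : σ ⟨s, hsN⟩ = 1 := by
      have ho : orderOf (⟨σ ⟨s, hsN⟩, ⟨_, rfl⟩⟩ : σ.range) ∣ 2 ^ k := orderOf_dvd_of_pow_eq_one (Subtype.ext (by
        rw [SubmonoidClass.coe_pow]
        show σ ⟨s, hsN⟩ ^ 2 ^ k = 1
        rw [← map_pow, show (⟨s, hsN⟩ : Nm) ^ 2 ^ k = 1 from Subtype.ext hk', map_one]))
      exact congrArg Subtype.val (orderOf_eq_one_iff.1 (Nat.eq_one_of_dvd_coprimes
        (Nat.Coprime.pow_right _ (Nat.coprime_two_right.2 hodd)) (orderOf_dvd_natCard _) ho))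
    refine mem_centralizer_iff.2 fun x hx => ?_
    have h2 : s * x * s⁻¹ = x := congrArg Subtype.val (congrArg (fun f : MulAut A => f ⟨x, hx⟩) h1)
    exact (mul_inv_eq_iff_eq_mul.1 h2).symm
  -- the orbit of `a`
  letI : MulAction σ.range A := MulAction.compHom A σ.range.subtype
  set O : Set A := MulAction.orbit σ.range (⟨a, hm.1⟩ : A) with hO
  have hOodd : Odd O.ncard := by
    rw [hO, ← MulAction.index_stabilizer]
    exact hodd.of_dvd_nat (Subgroup.index_dvd_card _)
  have hO1 : (⟨1, one_mem A⟩ : A) ∉ O := by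
    rintro ⟨g, hg⟩
    exact hm.2.1 (congrArg Subtype.val ((map_eq_one_iff _ ((g : MulAut A)).injective).1 hg))
  obtain ⟨r, hr, hrN, -, htrans, -, -⟩ := hA.rot hm
  have hOr : ∀ k : ℕ, ∀ v ∈ O, (⟨r ^ k * (v : G) * (r ^ k)⁻¹, (mem_normalizer_iff.1 (pow_mem hrN k) v).1 v.2⟩ : A) ∈ O :=
    fun k v hv => by
      have := MulAction.mem_orbit_of_mem_orbit (⟨σ ⟨r ^ k, pow_mem hrN k⟩, ⟨_, rfl⟩⟩ : σ.range) hv
      exact this
  have hza := h.ZA_eight hA h8 hm
  have hmemZ : ∀ x : G, x ∈ ZA A a L → x = 1 ∨ x = a := by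
    intro x hx
    rw [hza] at hx
    obtain ⟨i, rfl⟩ := mem_zpowers_iff.1 hx
    rcases Int.even_or_odd' i with ⟨j, rfl | rfl⟩
    · left; rw [zpow_mul, show a ^ (2 : ℤ) = 1 by rw [zpow_two, h.sq a hm.1], one_zpow]
    · right; rw [zpow_add, zpow_mul, show a ^ (2 : ℤ) = 1 by rw [zpow_two, h.sq a hm.1], one_zpow, one_mul, zpow_one]
  obtain ⟨v, hvO, hvZ⟩ : ∃ v ∈ O, (v : G) ∉ ZA A a L := by
    by_contra hc
    push Not at hc
    have hfix : Nm ≤ normalizer ((zpowers a : Subgroup G) : Set G) := fun g hg => by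
      have hmem := hc ⟨g * a * g⁻¹, (mem_normalizer_iff.1 hg a).1 hm.1⟩ ⟨⟨σ ⟨g, hg⟩, ⟨_, rfl⟩⟩, rfl⟩
      rcases hmemZ _ hmem with e | e
      · exact absurd (conj_eq_one_iff.1 e) hm.2.1
      · exact centralizer_le_normalizer _ (mem_centralizer_iff.2 fun y hy => by
          obtain ⟨i, rfl⟩ := mem_zpowers_iff.1 hy
          exact ((show Commute g a from mul_inv_eq_iff_eq_mul.1 e).zpow_right i).symm.eq)
    rcases h.invariant_eq (zpowers_le.2 hm.1) hfix with e | e
    · exact hm.2.1 (by simpa using e)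
    · have hcard := congrArg (fun H : Subgroup G => Nat.card H) e
      simp only [Nat.card_zpowers, h.ord_two hm.1 hm.2.1, h8] at hcard
      omega
  have hv1 : (v : G) ≠ 1 := fun e => hvZ (e ▸ one_mem _)
  -- in every coset a point of the orbit
  have hcos : ∀ w : A, (w : G) ∉ ZA A a L → w ∈ O ∨ (⟨w * a, mul_mem w.2 hm.1⟩ : A) ∈ O := by
    intro w hw
    obtain ⟨k, hk⟩ := htrans v v.2 w w.2 hvZ hw
    set y := r ^ k * (v : G) * (r ^ k)⁻¹
    rcases hmemZ _ hk with e | e
    · left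
      have e' : y = w := inv_mul_eq_one.1 e
      convert hOr k v hvO using 1
      exact Subtype.ext e'.symm
    · right
      have e' : (w : G) * a = y := by
        rw [← e, ← mul_assoc, h.comm w w.2 y⁻¹ (inv_mem ((mem_normalizer_iff.1 (pow_mem hrN k) v).1 v.2)),
          mul_assoc, h.sq w w.2, mul_one, inv_eq_of_mul_eq_one_right (h.sq y ((mem_normalizer_iff.1 (pow_mem hrN k) v).1 v.2))]
      convert hOr k v hvO using 1
      exact Subtype.ext e'
  have haO : (⟨a, hm.1⟩ : A) ∈ O := MulAction.mem_orbit_self _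
  have hall : ∀ w : A, (w : G) ≠ 1 → w ∈ O := by
    by_contra hc
    push Not at hc
    obtain ⟨u, hu1, huO⟩ := hc
    have huZ : (u : G) ∉ ZA A a L := fun hz => by
      rcases hmemZ _ hz with e | e
      · exact hu1 e
      · exact huO (by rwa [show u = ⟨a, hm.1⟩ from Subtype.ext e])
    -- exactly one point in each coset
    have hone : ∀ w : A, (w : G) ∉ ZA A a L → w ∈ O → (⟨w * a, mul_mem w.2 hm.1⟩ : A) ∉ O := by
      intro w hw hwO hwaO
      obtain ⟨k, hk⟩ := htrans w w.2 u u.2 hw huZ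
      set y := r ^ k * (w : G) * (r ^ k)⁻¹ with hy
      rcases hmemZ _ hk with e | e
      · refine huO ?_
        convert hOr k w hwO using 1
        exact Subtype.ext (inv_mul_eq_one.1 e).symm
      · refine huO ?_
        convert hOr k _ hwaO using 1
        refine Subtype.ext ?_
        show (u : G) = r ^ k * ((w : G) * a) * (r ^ k)⁻¹
        rw [← _root_.conj_mul, h.fix_ZA hm (pow_mem hr k) (pow_mem hrN k) (h.self_mem hm), mul_inv_cancel_right,
          ← hy, ← e, mul_inv_cancel_left]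
    -- so the orbit has four points
    haveI := Fintype.ofFinite A
    let f : A → A := fun w => ⟨w * a, mul_mem w.2 hm.1⟩
    have hff : ∀ w, f (f w) = w := fun w => Subtype.ext (by
      show (w : G) * a * a = w
      rw [mul_assoc, h.sq a hm.1, mul_one])
    have hsplit : ∀ w : A, f w ∈ O ↔ w ∉ O := by
      intro w
      by_cases hw : (w : G) ∈ ZA A a L
      · rcases hmemZ _ hw with e | e
        · have e1 : f w = ⟨a, hm.1⟩ := Subtype.ext (by show (w : G) * a = a; rw [e, one_mul])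
          rw [e1, show w = ⟨1, one_mem A⟩ from Subtype.ext e]
          exact iff_of_true haO hO1
        · have e1 : f w = ⟨1, one_mem A⟩ := Subtype.ext (by show (w : G) * a = 1; rw [e, h.sq a hm.1])
          rw [e1, show w = ⟨a, hm.1⟩ from Subtype.ext e]
          exact iff_of_false hO1 (fun hn => hn haO)
      · exact ⟨fun hf hwO => hone w hw hwO hf, fun hwO => (hcos w hw).resolve_left hwO⟩
    have hbij : O.ncard = Oᶜ.ncard := by
      refine Set.ncard_congr (fun w _ => f w) (fun w hw => ?_) (fun w w' _ _ e => ?_) fun w hw => ⟨f w, ?_, hff w⟩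
      · exact fun hf => (hsplit w).1 hf hw
      · rw [← hff w, show f w = f w' from e, hff]
      · exact (hsplit w).2 hw
    have htot := Set.ncard_add_ncard_compl O
    rw [← hbij, h8] at htot
    obtain ⟨j, hj⟩ := hOodd
    omega
  have htransN : ∀ x ∈ A, ∀ y ∈ A, x ≠ 1 → y ≠ 1 → ∃ g ∈ Nm, g * x * g⁻¹ = y := by
    intro x hx y hy hx1 hy1
    obtain ⟨⟨_, g, rfl⟩, hg⟩ := hall ⟨x, hx⟩ hx1
    obtain ⟨⟨_, g', rfl⟩, hg'⟩ := hall ⟨y, hy⟩ hy1
    refine ⟨g' * (g : G)⁻¹, mul_mem g'.2 (inv_mem g.2), ?_⟩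
    have e : (g : G) * a * (g : G)⁻¹ = x := congrArg Subtype.val hg
    have e' : (g' : G) * a * (g' : G)⁻¹ = y := congrArg Subtype.val hg'
    rw [← e, ← e']
    group
  refine ⟨h8, hcent, htransN, fun b hb hb1 => ?_, fun {b K K'} hK hK' => ?_, fun {b K} hK => h.ZA_eight hA h8 hK⟩
  · obtain ⟨g, hg, e⟩ := htransN a hm.1 b hb hm.2.1 hb1
    exact ⟨_, e ▸ hm.conj hg⟩
  · exact h.comp_unique hA hK' hK (by rw [h.ZA_eight hA h8 hK, h.ZA_eight hA h8 hK'])

end Cfsg.Lib.Goldschmidt
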