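import Cfsg.Agent.Goldschmidt.Fusion

/-!
The conjugates of a moved component and the lifts of a terminal one.
-/

set_option autoImplicit false
set_option linter.unusedSectionVars false
set_option linter.style.haveILetI false

namespace Cfsg.Lib.Goldschmidt

open Subgroup Cfsg.Lib.Components
open scoped commutatorElement
open Cfsg.Lib.Walter (IsComp Triv Oc)
open Cfsg.Lib.Components.PTerminal (Cent Core mem_cent)

universe u

variable {G : Type u} [Group G] [Finite G] {S : Sylow 2 G} {A : Subgroup G} {a b : G} {L K : Subgroup G}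

theorem odd_oc (a : G) : Odd (Nat.card ↥(Oc a)) := Nat.coprime_two_right.1 (PTerminal.card_core (p := 2) _)

theorem map_cz (g a : G) :
    (centralizer ({a} : Set G)).map (MulAut.conj g).toMonoidHom = centralizer ({g * a * g⁻¹} : Set G) := by
  ext x
  constructor
  · rintro ⟨c, hc, rfl⟩
    refine mem_centralizer_singleton_iff.2 ?_
    show g * c * g⁻¹ * (g * a * g⁻¹) = g * a * g⁻¹ * (g * c * g⁻¹)
    rw [_root_.conj_mul, _root_.conj_mul, mem_centralizer_singleton_iff.1 hc]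
  · intro hx
    refine ⟨g⁻¹ * x * g, mem_centralizer_singleton_iff.2 ?_, ?_⟩
    · have := mem_centralizer_singleton_iff.1 hx
      calc g⁻¹ * x * g * a = g⁻¹ * (x * (g * a * g⁻¹)) * g := by group
        _ = g⁻¹ * (g * a * g⁻¹ * x) * g := by rw [this]
        _ = _ := by group
    · show g * (g⁻¹ * x * g) * g⁻¹ = x
      group

theorem mem_ZA {x : G} (hm : Moved A a L) :
    x ∈ ZA A a L ↔ x ∈ A ∧ x ∈ centralizer ({a} : Set G) ∧ ∀ l ∈ L, ⁅l, x⁆ ∈ Oc a := by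
  rw [ZA, mem_inf, mem_cent hm.2.2.1.1]
  rfl

theorem map_A {n : G} (hn : n ∈ normalizer (A : Set G)) : A.map (MulAut.conj n).toMonoidHom = A :=
  mem_normalizer_iff_map_conj_eq.1 hn

theorem map_map_conj (g h : G) (H : Subgroup G) :
    (H.map (MulAut.conj h).toMonoidHom).map (MulAut.conj g).toMonoidHom = H.map (MulAut.conj (g * h)).toMonoidHom := by
  rw [Subgroup.map_map]
  congr 1
  ext x
  show g * (h * x * h⁻¹) * g⁻¹ = g * h * x * (g * h)⁻¹
  group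

theorem map_inv_conj (g : G) (H : Subgroup G) :
    (H.map (MulAut.conj g).toMonoidHom).map (MulAut.conj g⁻¹).toMonoidHom = H := by
  rw [map_map_conj, inv_mul_cancel]
  ext x
  simp

theorem ZA_conj (hm : Moved A a L) {n : G} (hn : n ∈ normalizer (A : Set G)) :
    (ZA A a L).map (MulAut.conj n).toMonoidHom ≤ ZA A (n * a * n⁻¹) (L.map (MulAut.conj n).toMonoidHom) := by
  rintro _ ⟨c, hc, rfl⟩
  refine mem_inf.2 ⟨(mem_normalizer_iff.1 hn c).1 hc.1, ?_⟩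
  have := PTerminal.cent_conj hm.2.2.1.1 hc.2 n
  rwa [map_cz] at this

theorem comp_conj (hL : IsComp a L) (n : G) : IsComp (n * a * n⁻¹) (L.map (MulAut.conj n).toMonoidHom) := by
  have := PTerminal.pcompOf_conj (p := 2) hL n
  rwa [map_cz] at this

theorem moved_conj_aux (hm : Moved A a L) {n : G} (hn : n ∈ normalizer (A : Set G)) :
    Moved A (n * a * n⁻¹) (L.map (MulAut.conj n).toMonoidHom) ∧
      ZA A (n * a * n⁻¹) (L.map (MulAut.conj n).toMonoidHom) = (ZA A a L).map (MulAut.conj n).toMonoidHom := by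
  have hc := comp_conj hm.2.2.1 n
  have hback : (ZA A (n * a * n⁻¹) (L.map (MulAut.conj n).toMonoidHom)).map (MulAut.conj n⁻¹).toMonoidHom ≤
      ZA A a L := by
    rintro _ ⟨c, hc', rfl⟩
    refine mem_inf.2 ⟨(mem_normalizer_iff.1 (inv_mem hn) c).1 hc'.1, ?_⟩
    have := PTerminal.cent_conj hc.1 hc'.2 n⁻¹
    rwa [map_cz, map_inv_conj, show n⁻¹ * (n * a * n⁻¹) * n⁻¹⁻¹ = a by group] at this
  have heq : ZA A (n * a * n⁻¹) (L.map (MulAut.conj n).toMonoidHom) = (ZA A a L).map (MulAut.conj n).toMonoidHom := by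
    refine le_antisymm ?_ (ZA_conj hm hn)
    have := Subgroup.map_mono (f := (MulAut.conj n).toMonoidHom) hback
    rwa [map_map_conj, mul_inv_cancel, show (MulAut.conj (1 : G)).toMonoidHom = MonoidHom.id G by ext; simp,
      Subgroup.map_id] at this
  refine ⟨⟨(mem_normalizer_iff.1 hn a).1 hm.1, fun e => hm.2.1 (conj_eq_one_iff.1 e), hc, fun hle => hm.2.2.2 ?_⟩, heq⟩
  rw [heq] at hle
  have := Subgroup.map_mono (f := (MulAut.conj n⁻¹).toMonoidHom) hle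
  rwa [map_inv_conj, map_A (inv_mem hn)] at this

namespace Moved

theorem conj (hm : Moved A a L) {n : G} (hn : n ∈ normalizer (A : Set G)) :
    Moved A (n * a * n⁻¹) (L.map (MulAut.conj n).toMonoidHom) := (moved_conj_aux hm hn).1

theorem ZA_conj_eq (hm : Moved A a L) {n : G} (hn : n ∈ normalizer (A : Set G)) :
    ZA A (n * a * n⁻¹) (L.map (MulAut.conj n).toMonoidHom) = (ZA A a L).map (MulAut.conj n).toMonoidHom :=
  (moved_conj_aux hm hn).2

end Moved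

namespace Min

variable (h : Min S A)
include h

theorem self_mem (hm : Moved A a L) : a ∈ ZA A a L := by
  refine (mem_ZA hm).2 ⟨hm.1, mem_centralizer_singleton_iff.2 rfl, fun l hl => ?_⟩
  rw [commutatorElement_eq_one_iff_mul_comm.2 (mem_centralizer_singleton_iff.1 (hm.2.2.1.1 hl))]
  exact one_mem _

theorem eq_one_core {b x : G} (hx : x ∈ A) (hc : x ∈ Oc b) : x = 1 := by
  by_contra h1
  have h2 := h.ord_two hx h1
  exact Nat.not_even_iff_odd.2 (odd_oc b) (even_iff_two_dvd.2 (h2 ▸ Subgroup.orderOf_dvd_natCard _ hc))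

/-- `N_L(A)` fixes `Z_L`. -/
theorem fix_ZA (hm : Moved A a L) {g : G} (hg : g ∈ L) (hgN : g ∈ normalizer (A : Set G)) {z : G}
    (hz : z ∈ ZA A a L) : g * z = z * g := by
  refine commutatorElement_eq_one_iff_mul_comm.1 (h.eq_one_core ?_ (((mem_ZA hm).1 hz).2.2 g hg))
  exact mul_mem ((mem_normalizer_iff.1 hgN z).1 hz.1) (inv_mem hz.1)

variable (hA : Local A)
include hA

/-- two components with the same `Z_L` are equal -/
theorem comp_unique (hm : Moved A a L) (hm' : Moved A a K) (he : ZA A a K = ZA A a L) : K = L := by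
  by_contra hne
  refine hm.2.2.2 ?_
  conv_lhs => rw [← hA.sup hm']
  exact sup_le he.le (hA.other hm hm' (Ne.symm hne))

/-- below every moved component there is a terminal one -/
theorem exists_terminal (hm : Moved A a L) : ∃ b K, Terminal A b K ∧ ZA A b K ≤ ZA A a L := by
  classical
  let s : Set (G × Subgroup G) := {p | Moved A p.1 p.2 ∧ ZA A p.1 p.2 ≤ ZA A a L}
  obtain ⟨⟨b, K⟩, ⟨hK, hle⟩, hmin⟩ := Set.exists_min_image s (fun p => Nat.card ↥(ZA A p.1 p.2))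
    (Set.toFinite _) ⟨(a, L), hm, le_rfl⟩
  refine ⟨b, K, ⟨hK, fun {b' K'} hK' _ hle' => ?_⟩, hle⟩
  exact Subgroup.eq_of_le_of_card_ge hle' (hmin (b', K') ⟨hK', hle'.trans hle⟩)

omit h hA in
theorem _root_.Cfsg.Lib.Goldschmidt.Terminal.of_eq (ht : Terminal A a L) (hm : Moved A b K)
    (he : ZA A b K = ZA A a L) : Terminal A b K :=
  ⟨hm, fun h1 h2 h3 => by rw [he] at h2 h3 ⊢; exact ht.2 h1 h2 h3⟩

omit h hA in
theorem _root_.Cfsg.Lib.Goldschmidt.Terminal.conj (ht : Terminal A a L) {n : G}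
    (hn : n ∈ normalizer (A : Set G)) : Terminal A (n * a * n⁻¹) (L.map (MulAut.conj n).toMonoidHom) := by
  refine ⟨ht.1.conj hn, fun {b K} hK hb hle => ?_⟩
  rw [ht.1.ZA_conj_eq hn] at hb hle ⊢
  have h1 := ht.2 (hK.conj (inv_mem hn)) ?_ ?_
  · rw [hK.ZA_conj_eq (inv_mem hn)] at h1
    have h2 := congrArg (Subgroup.map (MulAut.conj n).toMonoidHom) h1
    rwa [map_map_conj, mul_inv_cancel, show (MulAut.conj (1 : G)).toMonoidHom = MonoidHom.id G by ext; simp,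
      Subgroup.map_id] at h2
  · obtain ⟨c, hc, rfl⟩ := hb
    show n⁻¹ * (n * c * n⁻¹) * n⁻¹⁻¹ ∈ ZA A a L
    rwa [show n⁻¹ * (n * c * n⁻¹) * n⁻¹⁻¹ = c by group]
  · rw [hK.ZA_conj_eq (inv_mem hn)]
    have := Subgroup.map_mono (f := (MulAut.conj n⁻¹).toMonoidHom) hle
    rwa [map_inv_conj] at this

/-- the lift of a terminal component -/
theorem exists_lift (ht : Terminal A a L) (hb : b ∈ ZA A a L) (hb1 : b ≠ 1) :
    ∃ K, Moved A b K ∧ ZA A b K = ZA A a L ∧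
      L ⊓ centralizer ({b} : Set G) ≤ K ⊔ Oc b ⊔ (Oc a ⊓ centralizer ({b} : Set G)) := by
  obtain ⟨K, hK, hle, hcov⟩ := hA.lift ht.1 hb hb1
  exact ⟨K, hK, ht.2 hK hb hle, hcov⟩

/-- the lifts of a terminal component induce the same maps on `A` -/
theorem same_image (ht : Terminal A a L) (hK : Moved A b K) (he : ZA A b K = ZA A a L) {g : G} (hg : g ∈ L)
    (hgN : g ∈ normalizer (A : Set G)) :
    ∃ k ∈ K, k ∈ normalizer (A : Set G) ∧ ∀ x ∈ A, k * x * k⁻¹ = g * x * g⁻¹ := by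
  haveI : Fact (Nat.Prime 2) := ⟨Nat.prime_two⟩
  have hbZ : b ∈ ZA A a L := he ▸ h.self_mem hK
  obtain ⟨K₀, hK₀, he₀, hcov⟩ := h.exists_lift hA ht hbZ hK.2.1
  rw [h.comp_unique hA hK hK₀ (he₀.trans he.symm)] at hcov
  set C := centralizer ({b} : Set G) with hC
  set W := Oc b ⊔ (Oc a ⊓ C)
  have haK : a ∈ ZA A b K := by rw [he]; exact h.self_mem ht.1
  have hW : W ≤ Cent 2 C K := by
    refine sup_le (PTerminal.core_le_cent hK.2.2.1.1) fun x hx => (mem_cent hK.2.2.1.1).2 ⟨hx.2, fun j hj => ?_⟩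
    have h1 : ⁅x, j⁆ ∈ Oc b := hA.bal hK haK ht.1.2.1 hx.1 hx.2 j hj
    rw [← commutatorElement_inv]
    exact inv_mem h1
  have hWN : W ≤ normalizer (K : Set G) := hW.trans (PTerminal.cent_le_normalizer hK.2.2.1)
  have hgC : g ∈ C := mem_centralizer_singleton_iff.2 (h.fix_ZA ht.1 hg hgN hbZ)
  obtain ⟨k, hk, w, hw, hkw⟩ : ∃ k ∈ K, ∃ w ∈ W, k * w = g := by
    have hg' : g⁻¹ ∈ K ⊔ W := by
      have := inv_mem (hcov (mem_inf.2 ⟨hg, hgC⟩))
      rwa [sup_assoc] at this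
    obtain ⟨w, hw, k, hk, e⟩ := (Cfsg.Lib.Coprime.mem_sup_of_le_normalizer' hWN).1 hg'
    exact ⟨k⁻¹, inv_mem hk, w⁻¹, inv_mem hw, by rw [← mul_inv_rev, e, inv_inv]⟩
  have hkC : k ∈ C := hK.2.2.1.1 hk
  have hwC : w ∈ C := PTerminal.cent_le (hW hw)
  haveI : (Cfsg.pPrimeCore 2 ↥C).Normal := normal_of_mem_sSup_normal fun _ h => h.1
  set q := QuotientGroup.mk' (Cfsg.pPrimeCore 2 ↥C) with hq
  have hcq : ∀ {x y : G} (hx : x ∈ C) (hy : y ∈ C), ⁅x, y⁆ ∈ Oc b → Commute (q ⟨x, hx⟩) (q ⟨y, hy⟩) := by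
    intro x y hx hy hxy
    refine commutatorElement_eq_one_iff_mul_comm.1 ?_
    rw [← map_commutatorElement]
    obtain ⟨_, hmem⟩ := (PTerminal.mem_core (p := 2)).1 (hxy : ⁅x, y⁆ ∈ Core 2 C)
    exact (QuotientGroup.eq_one_iff _).2 hmem
  have hAC : A ≤ C := h.le_cent hK.1
  have key : ∀ x ∈ A, (g * x * g⁻¹)⁻¹ * (k * x * k⁻¹) ∈ Oc b := by
    intro x hx
    obtain ⟨hh, hhm, z, hz, rfl⟩ : ∃ hh ∈ A ⊓ K, ∃ z ∈ ZA A b K, hh * z = x := by
      have hn : A ⊓ K ≤ normalizer (ZA A b K : Set G) := fun v hv =>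
        centralizer_le_normalizer _ (mem_centralizer_iff.2 fun z hz => h.comm z hz.1 v hv.1)
      have hx' : x ∈ ZA A b K ⊔ (A ⊓ K) := by rw [hA.sup hK]; exact hx
      exact (Cfsg.Lib.Coprime.mem_sup_of_le_normalizer' hn).1 hx'
    have hzC : z ∈ C := ((mem_ZA hK).1 hz).2.1
    have hhC : hh ∈ C := hAC hhm.1
    have c1 : Commute (q ⟨w, hwC⟩) (q ⟨hh, hhC⟩) :=
      (hcq hhC hwC (((mem_cent hK.2.2.1.1).1 (hW hw)).2 hh hhm.2)).symm
    have c2 : Commute (q ⟨k, hkC⟩) (q ⟨z, hzC⟩) := hcq hkC hzC (((mem_ZA hK).1 hz).2.2 k hk)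
    have c3 : Commute (q ⟨g, hgC⟩) (q ⟨z, hzC⟩) := by
      refine hcq hgC hzC ?_
      rw [commutatorElement_eq_one_iff_mul_comm.2 (h.fix_ZA ht.1 hg hgN (he ▸ hz))]
      exact one_mem _
    have hgk : q ⟨g, hgC⟩ = q ⟨k, hkC⟩ * q ⟨w, hwC⟩ := by
      rw [← map_mul]; exact congrArg q (Subtype.ext hkw.symm)
    have c4 : Commute (q ⟨w, hwC⟩) (q ⟨z, hzC⟩) := by
      rw [hgk] at c3
      have := (c2.inv_left).mul_left c3
      rwa [inv_mul_cancel_left] at this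
    have heq : q (⟨g, hgC⟩ * (⟨hh, hhC⟩ * ⟨z, hzC⟩) * ⟨g, hgC⟩⁻¹) =
        q (⟨k, hkC⟩ * (⟨hh, hhC⟩ * ⟨z, hzC⟩) * ⟨k, hkC⟩⁻¹) := by
      have c5 := c1.mul_right c4
      simp only [map_mul, map_inv, hgk]
      rw [mul_inv_rev, mul_assoc (q ⟨k, hkC⟩) (q ⟨w, hwC⟩), c5.eq, ← mul_assoc (q ⟨k, hkC⟩),
        mul_assoc (q ⟨k, hkC⟩ * _) (q ⟨w, hwC⟩), mul_inv_cancel_left]
    exact (PTerminal.mem_core (p := 2)).2 ⟨_, QuotientGroup.eq.1 heq⟩
  set N := Oc b ⊓ K with hN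
  have hAK : A ≤ normalizer (K : Set G) := hA.le_norm hK.1 hK.2.1 hK.2.2.1
  have hAN : A ≤ normalizer (N : Set G) := fun v hv => ZStarApps.mem_normalizer_of_maps fun n hn =>
    ⟨(mem_normalizer_iff.1 (PTerminal.le_normalizer_core (p := 2) C (hAC hv)) n).1 hn.1,
      (mem_normalizer_iff.1 (hAK hv) n).1 hn.2⟩
  have key' : ∀ x ∈ A, (g * x * g⁻¹)⁻¹ * (k * x * k⁻¹) ∈ N := by
    intro x hx
    refine ⟨key x hx, ?_⟩
    set y := g * x * g⁻¹
    have hy : y ∈ A := (mem_normalizer_iff.1 hgN x).1 hx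
    have hc : x⁻¹ * (k * x * k⁻¹) ∈ K := by
      rw [show x⁻¹ * (k * x * k⁻¹) = x⁻¹ * k * x * k⁻¹ by group]
      refine mul_mem ?_ (inv_mem hk)
      have := (mem_normalizer_iff.1 (inv_mem (hAK hx)) k).1 hk
      rwa [inv_inv] at this
    have hu : y⁻¹ * x ∈ K := by
      refine PTerminal.pelem_mem (p := 2) (W := K ⊔ Core 2 C) (M := K) ?_ ?_ le_sup_left
        (PTerminal.sup_core_le_normalizer hK.2.2.1) (PTerminal.relIndex_sup_core hK.2.2.1)
      · exact S.2.to_le ((zpowers_le.2 (mul_mem (inv_mem hy) hx)).trans h.le)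
      · have : y⁻¹ * x = (y⁻¹ * (k * x * k⁻¹)) * (x⁻¹ * (k * x * k⁻¹))⁻¹ := by group
        rw [this]
        exact mul_mem (mem_sup_right (key x hx)) (mem_sup_left (inv_mem hc))
    have : y⁻¹ * (k * x * k⁻¹) = (y⁻¹ * x) * (x⁻¹ * (k * x * k⁻¹)) := by group
    rw [this]
    exact mul_mem hu hc
  -- move `k A k⁻¹` back to `A`
  set U := A ⊔ N with hU
  set P := A.map (MulAut.conj k).toMonoidHom with hP
  have hPU : P ≤ U := by
    rintro _ ⟨x, hx, rfl⟩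
    show k * x * k⁻¹ ∈ U
    have := mul_mem (mem_sup_left (T := N) ((mem_normalizer_iff.1 hgN x).1 hx)) (mem_sup_right (S := A) (key' x hx))
    rwa [mul_inv_cancel_left] at this
  have hidx : ¬ 2 ∣ A.relIndex U := fun hd => by
    have hmul := Subgroup.relIndex_mul_relIndex ⊥ A U bot_le le_sup_left
    rw [relIndex_bot_left, relIndex_bot_left] at hmul
    have hcard : Nat.card U ∣ Nat.card A * Nat.card N := by
      have h1 := Subgroup.relIndex_mul_relIndex ⊥ N (A ⊔ N) bot_le le_sup_right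
      rw [relIndex_bot_left, relIndex_bot_left, sup_comm A N,
        Cfsg.Lib.Misc.ControlExtension.relIndex_sup_of_le_normalizer hAN] at h1
      rw [hU, sup_comm A N, ← h1, mul_comm (Nat.card A)]
      exact Nat.mul_dvd_mul_left _ (relIndex_dvd_card _ _)
    rw [← hmul] at hcard
    have := (Nat.mul_dvd_mul_iff_left Nat.card_pos).1 hcard
    have h2 : 2 ∣ Nat.card N := hd.trans this
    exact Nat.not_even_iff_odd.2 ((odd_oc b).of_dvd_nat (card_dvd_of_le inf_le_left)) (even_iff_two_dvd.2 h2)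
  have hA2 : IsPGroup 2 A := S.2.to_le h.le
  let T : Sylow 2 U := (hA2.comap_subtype (K := U)).toSylow hidx
  obtain ⟨T', hT'⟩ := (((hA2.map (MulAut.conj k).toMonoidHom)).comap_subtype (K := U)).exists_le_sylow
  obtain ⟨v, hv⟩ := MulAction.exists_smul_eq U T T'
  obtain ⟨c, hc, n, hn, hcn⟩ : ∃ c ∈ A, ∃ n ∈ N, c * n = (v : G)⁻¹ := by
    have : (v : G)⁻¹ ∈ N ⊔ A := by rw [sup_comm]; exact inv_mem v.2
    obtain ⟨c, hc, n, hn, e⟩ := (Cfsg.Lib.Coprime.mem_sup_of_le_normalizer' hAN).1 this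
    exact ⟨c, hc, n, hn, e⟩
  have hnk : ∀ x ∈ A, n * (k * x * k⁻¹) * n⁻¹ = g * x * g⁻¹ := by
    intro x hx
    have h1 : (⟨k * x * k⁻¹, hPU ⟨x, hx, rfl⟩⟩ : U) ∈ (T' : Subgroup U) := hT' ⟨x, hx, rfl⟩
    rw [← hv] at h1
    obtain ⟨w', hw', hwe⟩ := h1
    have h2 : (v : G) * w' * (v : G)⁻¹ = k * x * k⁻¹ := congrArg Subtype.val hwe
    have hw'' : (w' : G) ∈ A := hw'
    have hmem : n * (k * x * k⁻¹) * n⁻¹ ∈ A := by
      rw [← h2, show n = c⁻¹ * (v : G)⁻¹ by rw [← hcn, inv_mul_cancel_left],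
        show c⁻¹ * (v : G)⁻¹ * ((v : G) * w' * (v : G)⁻¹) * (c⁻¹ * (v : G)⁻¹)⁻¹ = c⁻¹ * (w' : G) * c by group]
      exact mul_mem (mul_mem (inv_mem hc) hw'') hc
    have hy : g * x * g⁻¹ ∈ A := (mem_normalizer_iff.1 hgN x).1 hx
    refine (inv_mul_eq_one.1 (h.eq_one_core (b := b) (mul_mem (inv_mem hy) hmem) ?_)).symm
    have hyC := hAC hy
    have h3 : (g * x * g⁻¹)⁻¹ * n * (g * x * g⁻¹) ∈ Oc b := by
      have := (mem_normalizer_iff.1 (PTerminal.le_normalizer_core (p := 2) C (inv_mem hyC)) n).1 hn.1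
      rwa [inv_inv] at this
    rw [show (g * x * g⁻¹)⁻¹ * (n * (k * x * k⁻¹) * n⁻¹) =
      ((g * x * g⁻¹)⁻¹ * n * (g * x * g⁻¹)) * ((g * x * g⁻¹)⁻¹ * (k * x * k⁻¹)) * n⁻¹ by group]
    exact mul_mem (mul_mem h3 (key x hx)) (inv_mem hn.1)
  refine ⟨n * k, mul_mem hn.2 hk, ZStarApps.mem_normalizer_of_maps fun x hx => ?_, fun x hx => ?_⟩
  · rw [show n * k * x * (n * k)⁻¹ = n * (k * x * k⁻¹) * n⁻¹ by group, hnk x hx]
    exact (mem_normalizer_iff.1 hgN x).1 hx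
  · rw [show n * k * x * (n * k)⁻¹ = n * (k * x * k⁻¹) * n⁻¹ by group, hnk x hx]

end Min

end Cfsg.Lib.Goldschmidt
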