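import Cfsg.Agent.Goldschmidt.Class.Basic
import Cfsg.Agent.Walter.Fusion

/-!
A terminal component with a TI `Z_L`, fed into RLIN.
-/

set_option autoImplicit false
set_option linter.unusedSectionVars false
set_option linter.style.haveILetI false

namespace Cfsg.Lib.Goldschmidt

open Subgroup Cfsg.Lib.Components
open scoped commutatorElement
open Cfsg.Lib.Walter (IsComp Triv Oc)

universe u

variable {G : Type u} [Group G] [Finite G] {S : Sylow 2 G} {A : Subgroup G} {a b : G} {L K : Subgroup G}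

theorem map_conj_one (H : Subgroup G) : H.map (MulAut.conj (1 : G)).toMonoidHom = H := by
  rw [show (MulAut.conj (1 : G)).toMonoidHom = MonoidHom.id G by ext; simp, Subgroup.map_id]

namespace Min

variable (h : Min S A)
include h

/-- Every element fixing a point outside `Z` and inducing a power of the rotation is trivial on `A / Z`. -/
theorem rot_semi (hm : Moved A a L) {r g : G} (hr : r ∈ L) (hrN : r ∈ normalizer (A : Set G))
    (hodd : Odd (orderOf r))
    (hfix : ∀ k : ℕ, ∀ x ∈ A, x ∉ ZA A a L → r ^ k * x * (r ^ k)⁻¹ = x → ∀ y ∈ A, r ^ k * y * (r ^ k)⁻¹ = y)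
    {i : ℕ} (hi : ∀ x ∈ A, (g * x * g⁻¹)⁻¹ * (r ^ i * x * (r ^ i)⁻¹) ∈ ZA A a L) {v : G}
    (hv : v ∈ A) (hvZ : v ∉ ZA A a L) (hgv : (g * v * g⁻¹)⁻¹ * v ∈ ZA A a L) :
    ∀ w ∈ A, (g * w * g⁻¹)⁻¹ * w ∈ ZA A a L := by
  intro w hw
  have h1 : r ^ i * v * (r ^ i)⁻¹ = v := by
    set z := v⁻¹ * (r ^ i * v * (r ^ i)⁻¹) with hz
    have hzZ : z ∈ ZA A a L := by
      have := mul_mem (inv_mem hgv) (hi v hv)
      rwa [mul_inv_rev, inv_inv, mul_assoc, mul_inv_cancel_left] at this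
    have hfz : ∀ j : ℕ, (r ^ i) ^ j * v * ((r ^ i) ^ j)⁻¹ = v * z ^ j := by
      intro j
      induction j with
      | zero => simp
      | succ j ih =>
        rw [pow_succ' (r ^ i), show r ^ i * (r ^ i) ^ j * v * (r ^ i * (r ^ i) ^ j)⁻¹ =
          r ^ i * ((r ^ i) ^ j * v * ((r ^ i) ^ j)⁻¹) * (r ^ i)⁻¹ by group, ih, ← _root_.conj_mul]
        have hc : r ^ i * z ^ j * (r ^ i)⁻¹ = z ^ j := by
          rw [h.fix_ZA hm (pow_mem hr i) (pow_mem hrN i) (pow_mem hzZ j), mul_inv_cancel_right]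
        rw [hc, show r ^ i * v * (r ^ i)⁻¹ = v * z by rw [hz, mul_inv_cancel_left], mul_assoc, pow_succ']
    obtain ⟨o, ho⟩ := hodd
    have h2 := hfz (orderOf r)
    rw [← pow_mul, mul_comm i, pow_mul, pow_orderOf_eq_one, one_pow, one_mul, inv_one, mul_one, left_eq_mul] at h2
    rw [ho, pow_succ, pow_mul, pow_two, h.sq z hzZ.1, one_pow, one_mul] at h2
    rw [← show v * z = r ^ i * v * (r ^ i)⁻¹ by rw [hz, mul_inv_cancel_left], h2, mul_one]
  have h3 := hi w hw
  rwa [hfix i v hv hvZ h1 w hw] at h3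

/-- The alternatives of RLIN for a terminal component whose `Z_L` is TI. -/
theorem terminal_rlin (hR : RLINSpec.{u}) (hA : Local A) (ht : Terminal A a L)
    (hti : ∀ g ∈ normalizer (A : Set G), (ZA A a L).map (MulAut.conj g).toMonoidHom = ZA A a L ∨
      ZA A a L ⊓ (ZA A a L).map (MulAut.conj g).toMonoidHom = ⊥) :
    (Nat.card A = 8 ∧ Odd (Nat.card ↥(Walter.conjHom (normalizer (A : Set G)) A le_rfl).range)) ∨
      ∃ H : Subgroup G, H ≤ A ∧ ZA A a L ⊓ H = ⊥ ∧ ZA A a L ⊔ H = A ∧ Nat.card H = Nat.card ↥(ZA A a L) ∧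
        ∀ g ∈ normalizer (A : Set G),
          (ZA A a L).map (MulAut.conj g).toMonoidHom = ZA A a L ∨ (ZA A a L).map (MulAut.conj g).toMonoidHom = H := by
  classical
  have hm := ht.1
  letI : CommGroup ↥A := { (inferInstance : Group ↥A) with mul_comm := fun x y => Subtype.ext (h.comm x x.2 y y.2) }
  set Nm := normalizer (A : Set G) with hNm
  set σ := Walter.conjHom Nm A le_rfl with hσ
  set Z : Subgroup ↥A := (ZA A a L).subgroupOf A with hZ
  have hσv : ∀ (g : Nm) (v : A), ((σ g v : A) : G) = g * v * (g : G)⁻¹ := fun g v => rfl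
  have hZA : ZA A a L ≤ A := inf_le_left
  obtain ⟨r, hr, hrN, hodd, htrans, hfix, hrep⟩ := hA.rot hm
  let E₀ : Submonoid ↥Nm :=
    { carrier := {g | (g : G) ∈ L ∧
        ∃ k : ℕ, ∀ x ∈ A, ((g : G) * x * (g : G)⁻¹)⁻¹ * (r ^ k * x * (r ^ k)⁻¹) ∈ ZA A a L}
      one_mem' := ⟨one_mem L, 0, fun x _ => by simp⟩
      mul_mem' := by
        rintro g g' ⟨hg, i, hi⟩ ⟨hg', j, hj⟩
        refine ⟨mul_mem hg hg', i + j, fun x hx => ?_⟩
        have hy : r ^ j * x * (r ^ j)⁻¹ ∈ A := (mem_normalizer_iff.1 (pow_mem hrN j) x).1 hx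
        have h1 := mul_mem (hj x hx) (hi _ hy)
        have h2 : (g : G) * (((g' : G) * x * (g' : G)⁻¹)⁻¹ * (r ^ j * x * (r ^ j)⁻¹)) * (g : G)⁻¹ =
            ((g' : G) * x * (g' : G)⁻¹)⁻¹ * (r ^ j * x * (r ^ j)⁻¹) := by
          rw [h.fix_ZA hm hg g.2 (hj x hx), mul_inv_cancel_right]
        conv at h1 => arg 2; arg 1; rw [← h2]
        rw [Subgroup.coe_mul, pow_add]
        convert h1 using 1
        group }
  let E₁ : Subgroup ↥Nm :=
    { E₀ with
      inv_mem' := fun {g} hg => by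
        have h1 := pow_mem (S := E₀) hg (orderOf g - 1)
        have e : g⁻¹ = g ^ (orderOf g - 1) := inv_eq_of_mul_eq_one_right (by
          rw [← pow_succ', Nat.sub_add_cancel (orderOf_pos g), pow_orderOf_eq_one])
        show g⁻¹ ∈ E₀
        rwa [e] }
  set E : Subgroup (MulAut ↥A) := E₁.map σ with hE
  have hmapinj : ∀ {g : G} {H₁ H₂ : Subgroup G},
      H₁.map (MulAut.conj g).toMonoidHom = H₂.map (MulAut.conj g).toMonoidHom → H₁ = H₂ := fun {g _ _} e =>
    Subgroup.map_injective (MulAut.conj g).injective e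
  have hstab : ∀ g : Nm, (∀ z ∈ Z, σ g z ∈ Z) → (ZA A a L).map (MulAut.conj (g : G)).toMonoidHom = ZA A a L := by
    intro g hg
    refine Subgroup.eq_of_le_of_card_ge ?_ (card_map_of_injective (MulAut.conj (g : G)).injective).ge
    rintro _ ⟨c, hc, rfl⟩
    exact hg ⟨c, hZA hc⟩ hc
  refine Or.elim (hR ↥A σ.range E Z (fun v => Subtype.ext (h.sq v v.2)) ?irr ?Zne ?idx ?le ?fixZ ?tiR ?normE ?trans ?commE
    ?semi ?shear) (fun h8 => .inl h8) ?two
  case irr =>
    intro U hU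
    rcases h.invariant_eq (B := U.map A.subtype) (map_subtype_le U) (fun g hg => ZStarApps.mem_normalizer_of_maps (by
      rintro _ ⟨v, hv, rfl⟩
      exact ⟨σ ⟨g, hg⟩ v, hU _ ⟨⟨g, hg⟩, rfl⟩ v hv, rfl⟩)) with e | e
    · exact .inl ((map_eq_bot_iff_of_injective _ A.subtype_injective).1 e)
    · refine .inr (map_injective A.subtype_injective ?_)
      rw [e, ← MonoidHom.range_eq_map, range_subtype]
  case Zne =>
    intro e
    have h1 : (⟨a, hm.1⟩ : A) ∈ Z := h.self_mem hm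
    rw [e, mem_bot] at h1
    exact hm.2.1 (congrArg Subtype.val h1)
  case idx => exact hA.index hm
  case le => exact map_le_range σ _
  case fixZ =>
    rintro _ ⟨g, hg, rfl⟩ z hz
    refine Subtype.ext ?_
    rw [hσv, h.fix_ZA hm (g := (g : G)) (z := (z : G)) hg.1 g.2 hz, mul_inv_cancel_right]
  case tiR =>
    rintro _ ⟨g, rfl⟩
    rcases hti g g.2 with e | e
    · exact .inl fun z hz => show (g : G) * z * (g : G)⁻¹ ∈ ZA A a L from e.le ⟨z, hz, rfl⟩
    · refine .inr fun z hz hgz => Subtype.ext ?_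
      have h1 : (g : G) * z * (g : G)⁻¹ ∈ ZA A a L ⊓ (ZA A a L).map (MulAut.conj (g : G)).toMonoidHom :=
        ⟨hgz, z, hz, rfl⟩
      rw [e, mem_bot, conj_eq_one_iff] at h1
      exact h1
  case normE =>
    rintro _ ⟨g, rfl⟩ hg _ ⟨l, hl, rfl⟩
    have he := hstab g hg
    have hK := ht.1.conj g.2
    have heK := (ht.1.ZA_conj_eq g.2).trans he
    have ht' : Terminal A _ _ := ht.conj g.2
    obtain ⟨k, hk, hkN, hkx⟩ := h.same_image hA ht' ht.1 heK.symm (g := (g : G) * l * (g : G)⁻¹)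
      ⟨l, hl.1, rfl⟩ (mul_mem (mul_mem g.2 l.2) (inv_mem g.2))
    refine ⟨⟨k, hkN⟩, ⟨hk, ?_⟩, ?_⟩
    · -- the image of the rotation seen from the conjugate
      obtain ⟨r₁, hr₁, hr₁N, hr₁x⟩ := h.same_image hA ht' ht.1 heK.symm (g := (g : G) * r * (g : G)⁻¹)
        ⟨r, hr, rfl⟩ (mul_mem (mul_mem g.2 hrN) (inv_mem g.2))
      have hginv : ∀ z ∈ ZA A a L, (g : G) * z * (g : G)⁻¹ ∈ ZA A a L := fun z hz => he.le ⟨z, hz, rfl⟩
      rcases hrep r₁ hr₁ hr₁N with ⟨j, hj⟩ | ⟨h8, hcube⟩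
      · obtain ⟨i, hi⟩ := hl.2
        refine ⟨j * i, fun x hx => ?_⟩
        let q := QuotientGroup.mk' Z
        let g' : Nm := g
        have hmul : ∀ (u : Nm), (u : G) ∈ L → ∀ x y : A, q x = q y → q (σ u x) = q (σ u y) := by
          intro u hu x y hxy
          refine QuotientGroup.eq.2 ?_
          rw [← map_inv, ← map_mul]
          show (u : G) * ((x⁻¹ * y : A) : G) * (u : G)⁻¹ ∈ ZA A a L
          have hz : ((x⁻¹ * y : A) : G) ∈ ZA A a L := (QuotientGroup.eq (s := Z)).1 hxy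
          rwa [h.fix_ZA hm hu u.2 hz, mul_inv_cancel_right]
        have hg' : ∀ x y : A, q x = q y → q (σ g x) = q (σ g y) := by
          intro x y hxy
          refine QuotientGroup.eq.2 ?_
          rw [← map_inv, ← map_mul]
          exact hginv _ ((QuotientGroup.eq (s := Z)).1 hxy)
        set R₁ : Nm := ⟨r₁, hr₁N⟩
        set Rr : Nm := ⟨r, hrN⟩
        have e1 : ∀ v : A, σ R₁ v = σ (g * Rr * g⁻¹) v := fun v => Subtype.ext (hr₁x v v.2)
        have e2 : ∀ v : A, q (σ R₁ v) = q (σ (Rr ^ j) v) := fun v => QuotientGroup.eq.2 (hj v v.2)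
        have e3 : ∀ v : A, q (σ l v) = q (σ (Rr ^ i) v) := fun v => QuotientGroup.eq.2 (hi v v.2)
        have e4 : ∀ (n : ℕ) (v : A), q (σ ((g * Rr * g⁻¹) ^ n) v) = q (σ ((Rr ^ j) ^ n) v) := by
          intro n
          induction n with
          | zero => intro v; rw [pow_zero, pow_zero]
          | succ n ih =>
            intro v
            rw [pow_succ', pow_succ', map_mul σ (g * Rr * g⁻¹) _, map_mul σ (Rr ^ j) _, MulAut.mul_apply, MulAut.mul_apply, ← e1, e2]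
            exact hmul _ (pow_mem hr j) _ _ (ih v)
        have e5 : q (σ (g * l * g⁻¹) ⟨x, hx⟩) = q (σ (Rr ^ (j * i)) ⟨x, hx⟩) := by
          rw [pow_mul, ← e4 i ⟨x, hx⟩, conj_pow, map_mul σ, map_mul σ, MulAut.mul_apply, MulAut.mul_apply, map_mul σ,
            map_mul σ, MulAut.mul_apply, MulAut.mul_apply]
          exact hg' _ _ (e3 _)
        have hkx' : σ ⟨k, hkN⟩ ⟨x, hx⟩ = σ (g * l * g⁻¹) ⟨x, hx⟩ := Subtype.ext (hkx x hx)
        rw [← hkx'] at e5
        exact (QuotientGroup.eq (s := Z)).1 e5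
      · exfalso
        -- the cube of the rotation would be trivial on `A / Z`
        obtain ⟨x, hx, hxZ⟩ : ∃ x ∈ A, x ∉ ZA A a L := SetLike.not_le_iff_exists.1 hm.2.2.2
        let q := QuotientGroup.mk' Z
        set Rr : Nm := ⟨r, hrN⟩
        have h3 : ∀ v : A, q (σ (Rr ^ 3) v) = q v := by
          intro v
          have hv := hcube _ ((mem_normalizer_iff.1 g.2 (v : G)).1 v.2)
          have hcb : ∀ y ∈ A, r₁ ^ 3 * y * (r₁ ^ 3)⁻¹ = (g : G) * r ^ 3 * (g : G)⁻¹ * y * ((g : G) * r ^ 3 * (g : G)⁻¹)⁻¹ := by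
            intro y hy
            have hp : ∀ y ∈ A, (g : G) * r * (g : G)⁻¹ * y * ((g : G) * r * (g : G)⁻¹)⁻¹ ∈ A := fun y hy =>
              (mem_normalizer_iff.1 (mul_mem (mul_mem g.2 hrN) (inv_mem g.2)) y).1 hy
            rw [show r₁ ^ 3 * y * (r₁ ^ 3)⁻¹ = r₁ * (r₁ * (r₁ * y * r₁⁻¹) * r₁⁻¹) * r₁⁻¹ by
              rw [pow_succ, pow_succ, pow_one]; group, hr₁x y hy,
              hr₁x _ (hp y hy), hr₁x _ (hp _ (hp y hy))]
            simp only [pow_succ, pow_zero, one_mul]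
            group
          rw [hcb _ ((mem_normalizer_iff.1 g.2 (v : G)).1 v.2)] at hv
          refine QuotientGroup.eq.2 ?_
          show (r ^ 3 * (v : G) * (r ^ 3)⁻¹)⁻¹ * v ∈ ZA A a L
          have hback : ∀ z : G, (g : G) * z * (g : G)⁻¹ ∈ ZA A a L → z ∈ ZA A a L := fun z hz => by
            obtain ⟨c, hc, e⟩ := he.ge hz
            rwa [← (MulAut.conj (g : G)).injective (show MulAut.conj (g : G) c = MulAut.conj (g : G) z from e)]
          refine hback _ ?_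
          convert hv using 1
          group
        have hper : ∀ k : ℕ, q (σ (Rr ^ k) ⟨x, hx⟩) = q (σ (Rr ^ (k % 3)) ⟨x, hx⟩) := by
          intro k
          induction k using Nat.strong_induction_on with
          | _ k ih =>
            rcases Nat.lt_or_ge k 3 with hk | hk
            · rw [Nat.mod_eq_of_lt hk]
            · obtain ⟨m, rfl⟩ := Nat.exists_eq_add_of_le hk
              rw [pow_add, map_mul σ, MulAut.mul_apply, h3, ih m (by omega), Nat.add_mod_left]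
        haveI := Fintype.ofFinite (↥A ⧸ Z)
        have hsub : (Finset.univ : Finset (↥A ⧸ Z)) ⊆
            insert 1 ((Finset.range 3).image fun k => q (σ (Rr ^ k) ⟨x, hx⟩)) := by
          intro w _
          obtain ⟨y, rfl⟩ := QuotientGroup.mk_surjective w
          rw [Finset.mem_insert]
          by_cases hy : (y : G) ∈ ZA A a L
          · exact .inl ((QuotientGroup.eq_one_iff _).2 hy)
          · obtain ⟨k, hk⟩ := htrans x hx y y.2 hxZ hy
            refine .inr (Finset.mem_image.2 ⟨k % 3, Finset.mem_range.2 (Nat.mod_lt _ (by norm_num)), ?_⟩)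
            rw [← hper]
            exact QuotientGroup.eq.2 hk
        have hcard := (Finset.card_le_card hsub).trans ((Finset.card_insert_le _ _).trans (Nat.succ_le_succ Finset.card_image_le))
        rw [Finset.card_univ, ← Nat.card_eq_fintype_card, ← index_eq_card, Finset.card_range] at hcard
        change (ZA A a L).relIndex A ≤ 4 at hcard
        omega
    rw [← map_inv, ← map_mul, ← map_mul]
    exact MulEquiv.ext fun v => Subtype.ext (hkx v v.2)
  case trans =>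
    intro v w hv hw
    obtain ⟨k, hk⟩ := htrans v v.2 w w.2 hv hw
    exact ⟨σ ⟨r ^ k, pow_mem hrN k⟩, ⟨⟨r ^ k, pow_mem hrN k⟩, ⟨pow_mem hr k, k, fun x _ => by rw [inv_mul_cancel]; exact one_mem _⟩, rfl⟩, hk⟩
  case commE =>
    rintro _ ⟨e, he, rfl⟩ _ ⟨f, hf, rfl⟩ v
    let q := QuotientGroup.mk' Z
    have hq : ∀ x y : A, x⁻¹ * y ∈ Z → q x = q y := fun x y hxy => QuotientGroup.eq.2 hxy
    have hp : ∀ (i : ℕ) (x y : A), q x = q y → q (σ ⟨r ^ i, pow_mem hrN i⟩ x) = q (σ ⟨r ^ i, pow_mem hrN i⟩ y) := by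
      intro i x y hxy
      refine hq _ _ ?_
      rw [← map_inv, ← map_mul]
      show r ^ i * ((x⁻¹ * y : A) : G) * (r ^ i)⁻¹ ∈ ZA A a L
      have hz : ((x⁻¹ * y : A) : G) ∈ ZA A a L := (QuotientGroup.eq (s := Z)).1 hxy
      rwa [h.fix_ZA hm (pow_mem hr i) (pow_mem hrN i) hz, mul_inv_cancel_right]
    obtain ⟨-, i, hi⟩ := he
    obtain ⟨-, j, hj⟩ := hf
    have he' : ∀ x : A, q (σ e x) = q (σ ⟨r ^ i, pow_mem hrN i⟩ x) := fun x => hq _ _ (hi x x.2)
    have hf' : ∀ x : A, q (σ f x) = q (σ ⟨r ^ j, pow_mem hrN j⟩ x) := fun x => hq _ _ (hj x x.2)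
    refine QuotientGroup.eq.1 (show q (σ e (σ f v)) = q (σ f (σ e v)) from ?_)
    rw [he', hp i _ _ (hf' v), hf' (σ e v), hp j _ _ (he' v)]
    congr 1
    refine Subtype.ext ?_
    show r ^ i * (r ^ j * v * (r ^ j)⁻¹) * (r ^ i)⁻¹ = r ^ j * (r ^ i * v * (r ^ i)⁻¹) * (r ^ j)⁻¹
    rw [show r ^ i * (r ^ j * v * (r ^ j)⁻¹) * (r ^ i)⁻¹ = (r ^ i * r ^ j) * v * (r ^ i * r ^ j)⁻¹ by group,
      show r ^ j * (r ^ i * v * (r ^ i)⁻¹) * (r ^ j)⁻¹ = (r ^ j * r ^ i) * v * (r ^ j * r ^ i)⁻¹ by group,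
      ← pow_add, ← pow_add, add_comm]
  case semi =>
    rintro _ ⟨g, hg, rfl⟩ v hv hgv w
    obtain ⟨-, i, hi⟩ := hg
    exact h.rot_semi hm hr hrN hodd hfix hi v.2 hv hgv w w.2
  case shear =>
    rintro _ ⟨g, hg, rfl⟩ hgz
    obtain ⟨⟨x, hx, hxZ, hgx⟩, h4⟩ := hA.shear hm (g := (g : G)) hg.1 g.2 fun x hx => by
      have h1 : ((g : G) * x * (g : G)⁻¹)⁻¹ * x ∈ ZA A a L := hgz ⟨x, hx⟩
      have hy : (g : G) * x * (g : G)⁻¹ ∈ A := (mem_normalizer_iff.1 g.2 x).1 hx
      have e : (g : G) * x * (g : G)⁻¹ * x⁻¹ = ((g : G) * x * (g : G)⁻¹)⁻¹ * x := by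
        rw [inv_eq_of_mul_eq_one_right (h.sq _ hy), inv_eq_of_mul_eq_one_right (h.sq x hx)]
      rwa [e]
    refine ⟨⟨⟨x, hx⟩, hxZ, Subtype.ext ?_⟩, fun e4 => MulEquiv.ext fun w => Subtype.ext ?_⟩
    · rw [hσv, hgx, mul_inv_cancel_right]
    · rw [hσv, h4 e4 w w.2, mul_inv_cancel_right]
      rfl
  · rintro ⟨H₀, hinf, hsup, hcard, hall⟩
    refine .inr ⟨H₀.map A.subtype, map_subtype_le _, ?_, ?_, ?_, fun g hg => ?_⟩
    · rw [← map_subgroupOf_eq_of_le hZA, ← Subgroup.map_inf _ _ _ A.subtype_injective, hinf, Subgroup.map_bot]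
    · rw [← map_subgroupOf_eq_of_le hZA, ← Subgroup.map_sup, hsup, ← MonoidHom.range_eq_map, range_subtype]
    · rw [card_map_of_injective A.subtype_injective, hcard,
        Nat.card_congr (subgroupOfEquivOfLe hZA).toEquiv]
    · rcases hall _ ⟨⟨g, hg⟩, rfl⟩ with e | e
      · exact .inl (hstab ⟨g, hg⟩ e)
      · refine .inr (Subgroup.eq_of_le_of_card_ge ?_ ?_)
        · rintro _ ⟨c, hc, rfl⟩
          exact ⟨_, e ⟨c, hZA hc⟩ hc, rfl⟩
        · rw [card_map_of_injective A.subtype_injective, hcard,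
            Nat.card_congr (subgroupOfEquivOfLe hZA).toEquiv, card_map_of_injective (MulAut.conj g).injective]

end Min

end Cfsg.Lib.Goldschmidt
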